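import Mathlib

/-!
# THEOREM SZ (406 #19896), CLAIM A: the core lemma, without Maschke

`Core θ B X δ e₀ e₁ π₀ π₁`: `B` an elementary abelian 2-group with operators `X a = t_a - 1` (`a ∈ F`), torus `δ l`
(`l ≠ 0`), coordinates `e₀, e₁ : F → B` of `M₁ ∩ B` (bottom natural factor), `π₀, π₁ : B → F` of `B/(M₂ ∩ B)` (top natural
factor). `Core.claim : X a (X b m) = 0`.
-/

set_option autoImplicit false
set_option linter.unusedSectionVars false

namespace Cfsg.Agent.Omega.NO1.SzMod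

variable {F : Type*} [Field F] {θ : F →+* F} {B : Type*} [AddCommGroup B]

/-- The data of the core lemma. -/
structure Core (θ : F →+* F) (B : Type*) [AddCommGroup B] (X : F → B →+ B) (δ : Fˣ → B →+ B)
    (e₀ e₁ : F →+ B) (π₀ π₁ : B →+ F) : Prop where
  two : ∀ x : F, x + x = 0
  sq : ∀ x : F, θ (θ x) = x ^ 2
  ne_id : ∃ c : F, θ c ≠ c
  twoB : ∀ m : B, m + m = 0
  X_add : ∀ a b m, X (a + b) m = X a m + X b m + X a (X b m)
  X_comm : ∀ a b m, X a (X b m) = X b (X a m)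
  X_zero : ∀ m, X 0 m = 0
  δ_X : ∀ (l : Fˣ) a m, δ l (X a m) = X (θ l * a) (δ l m)
  X_e₀ : ∀ a c, X a (e₀ c) = 0
  X_e₁ : ∀ a c, X a (e₁ c) = e₀ (a * c)
  δ_e₀ : ∀ (l : Fˣ) c, δ l (e₀ c) = e₀ (l * θ l * c)
  e₀_inj : Function.Injective e₀
  π₀_e₀ : ∀ c, π₀ (e₀ c) = 0
  π₀_e₁ : ∀ c, π₀ (e₁ c) = 0
  π₁_e₀ : ∀ c, π₁ (e₀ c) = 0
  π₁_e₁ : ∀ c, π₁ (e₁ c) = 0
  π₁_X : ∀ a m, π₁ (X a m) = 0
  π₀_X : ∀ a m, π₀ (X a m) = a * π₁ m
  π₁_δ : ∀ (l : Fˣ) m, π₁ (δ l m) = l * π₁ m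
  π₀_δ : ∀ (l : Fˣ) m, π₀ (δ l m) = l * θ l * π₀ m
  π_surj : ∃ m, π₁ m = 1
  /-- `M/M₁` -/
  top : ∀ a b m, ∃ c d, X a (X b m) = e₀ c + e₁ d
  top' : ∀ y, (∀ a, ∃ c d, X a y = e₀ c + e₁ d) → ∀ a, ∃ c, X a y = e₀ c
  /-- `M₂` -/
  bot : ∀ m, π₀ m = 0 → π₁ m = 0 → ∀ a b, X a (X b m) = 0
  bot' : ∀ m, π₀ m = 0 → π₁ m = 0 → X 1 m = 0 → ∀ a, X a m = 0

variable {X : F → B →+ B} {δ : Fˣ → B →+ B} {e₀ e₁ : F →+ B} {π₀ π₁ : B →+ F}

/-- `y ∈ Y` with coordinates `q`. -/
def Yq (X : F → B →+ B) (e₀ : F →+ B) (y : B) (q : F → F) : Prop := ∀ a, X a y = e₀ (q a)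

namespace Core

variable (h : Core θ B X δ e₀ e₁ π₀ π₁)
include h

theorem exists_Yq {y : B} (hy : ∀ a, ∃ c d, X a y = e₀ c + e₁ d) : ∃ q, Yq X e₀ y q := by
  choose q hq using h.top' y hy
  exact ⟨q, hq⟩

theorem exists_YqX (b : F) (m : B) : ∃ q, Yq X e₀ (X b m) q :=
  h.exists_Yq fun a => h.top a b m

theorem XXX (a b c : F) (m : B) : X a (X b (X c m)) = 0 := by
  obtain ⟨q, hq⟩ := h.exists_YqX c m
  rw [hq b, h.X_e₀]

theorem Yq_uniq {y : B} {q q' : F → F} (hq : Yq X e₀ y q) (hq' : Yq X e₀ y q') : q = q' := by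
  funext a
  exact h.e₀_inj (by rw [← hq a, ← hq' a])

theorem Yq_add {y y' : B} {q q' : F → F} (hq : Yq X e₀ y q) (hq' : Yq X e₀ y' q') :
    Yq X e₀ (y + y') (q + q') := by
  intro a
  rw [map_add, hq a, hq' a, Pi.add_apply, map_add]

theorem q_add {y : B} {q : F → F} (hq : Yq X e₀ y q) (a b : F) : q (a + b) = q a + q b := by
  apply h.e₀_inj
  rw [← hq, h.X_add, map_add, ← hq, ← hq, hq b, h.X_e₀, add_zero]

theorem q_zero {y : B} {q : F → F} (hq : Yq X e₀ y q) : q 0 = 0 := by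
  apply h.e₀_inj
  rw [← hq, h.X_zero, map_zero]

theorem Yq_δ {y : B} {q : F → F} (hq : Yq X e₀ y q) (l : Fˣ) :
    Yq X e₀ (δ l y) (fun a => l * θ l * q ((θ l)⁻¹ * a)) := by
  intro a
  have hθ : θ (l : F) ≠ 0 := (map_ne_zero θ).2 l.ne_zero
  have h1 := h.δ_X l ((θ l)⁻¹ * a) y
  rw [← mul_assoc, mul_inv_cancel₀ hθ, one_mul, hq, h.δ_e₀] at h1
  exact h1.symm

end Core

/-- the `F`-linear part of `q` -/
def tau [Fintype Fˣ] (q : F → F) : F := ∑ a : Fˣ, (a : F)⁻¹ * q a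

section tau

variable [Fintype F] [DecidableEq F]

theorem tau_add (q q' : F → F) : tau (q + q') = tau q + tau q' := by
  unfold tau
  rw [← Finset.sum_add_distrib]
  exact Finset.sum_congr rfl fun a _ => by rw [Pi.add_apply]; ring

theorem tau_lin (two : ∀ x : F, x + x = 0) (c : F) : tau (fun a => a * c) = c := by
  unfold tau
  have h1 : ∀ a ∈ (Finset.univ : Finset Fˣ), (a : F)⁻¹ * (a * c) = c := fun a _ => by
    rw [← mul_assoc, inv_mul_cancel₀ a.ne_zero, one_mul]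
  rw [Finset.sum_congr rfl h1, Finset.sum_const, Finset.card_univ]
  have h2 : (Fintype.card Fˣ : F) = 1 := by
    have h3 := Fintype.card_units (α := F)
    have h4 : Fintype.card Fˣ + 1 = Fintype.card F := by
      have := Fintype.one_lt_card (α := F)
      omega
    have h8 : ((Fintype.card Fˣ : ℕ) : F) + 1 = 0 := by
      have : (((Fintype.card Fˣ + 1 : ℕ)) : F) = (Fintype.card F : F) := by rw [h4]
      rw [Nat.cast_add, Nat.cast_one, FiniteField.cast_card_eq_zero] at this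
      exact this
    have h9 : (1 : F) + 1 = 0 := two 1
    linear_combination h8 - h9
  rw [nsmul_eq_mul, h2, one_mul]

theorem tau_zero : tau (0 : F → F) = 0 := by
  unfold tau
  exact Finset.sum_eq_zero fun a _ => by rw [Pi.zero_apply, mul_zero]

theorem tau_δ (q : F → F) (l : Fˣ) : tau (fun a => l * θ l * q ((θ l)⁻¹ * a)) = l * tau q := by
  unfold tau
  rw [Finset.mul_sum]
  have hθ : θ (l : F) ≠ 0 := (map_ne_zero θ).2 l.ne_zero
  let t : Fˣ := Units.mk0 (θ l) hθ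
  rw [← Equiv.sum_comp (Equiv.mulLeft t)]
  refine Finset.sum_congr rfl fun a _ => ?_
  have h1 : (((Equiv.mulLeft t) a : Fˣ) : F) = θ l * a := rfl
  have h2 : (θ (l : F))⁻¹ * (θ l * a) = a := by rw [← mul_assoc, inv_mul_cancel₀ hθ, one_mul]
  show (((Equiv.mulLeft t) a : Fˣ) : F)⁻¹ * (l * θ l * q ((θ l)⁻¹ * (((Equiv.mulLeft t) a : Fˣ) : F))) = _
  rw [h1, h2, mul_inv]
  have ha := a.ne_zero
  field_simp

end tau

namespace Core

variable [Fintype F] [DecidableEq F] (h : Core θ B X δ e₀ e₁ π₀ π₁)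
include h

/-- elements of `Y` in `M₂`: `q` is linear -/
theorem q_lin {y : B} {q : F → F} (hq : Yq X e₀ y q) (h0 : π₀ y = 0) (h1 : π₁ y = 0) :
    q = fun a => a * tau q := by
  have h2 : ∀ a, q a = a * q 1 := by
    intro a
    have h3 : X 1 (y + e₁ (q 1)) = 0 := by
      rw [map_add, hq, h.X_e₁, one_mul, h.twoB]
    have h4 := h.bot' (y + e₁ (q 1)) (by rw [map_add, h0, h.π₀_e₁, add_zero])
      (by rw [map_add, h1, h.π₁_e₁, add_zero]) h3 a
    rw [map_add, hq, h.X_e₁, ← map_add] at h4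
    have h5 : q a + a * q 1 = 0 := h.e₀_inj (by rw [h4, map_zero])
    have h6 := h.two (a * q 1)
    linear_combination h5 - h6
  have h3 : q = fun a => a * q 1 := funext h2
  have h4 : tau q = q 1 := by
    conv_lhs => rw [h3]
    exact tau_lin h.two (q 1)
  rw [h4]
  exact h3

/-- `r` depends only on the image in `M/M₂` -/
theorem r_congr {y y' : B} {q q' : F → F} (hq : Yq X e₀ y q) (hq' : Yq X e₀ y' q') (h0 : π₀ y = π₀ y')
    (h1 : π₁ y = π₁ y') (a : F) : q a + a * tau q = q' a + a * tau q' := by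
  have h2 := h.q_lin (h.Yq_add hq hq') (by rw [map_add, h0, h.two]) (by rw [map_add, h1, h.two])
  have h3 := congrFun h2 a
  rw [Pi.add_apply, tau_add] at h3
  have h4 := h.two (a * tau q)
  have h5 := h.two (q' a)
  linear_combination h3 + h4 - h5

theorem exists_k (x : F) (hx : x ≠ 0) : ∃ k : Fˣ, (k : F) * θ k = x := by
  have hθ : θ x ≠ 0 := (map_ne_zero θ).2 hx
  refine ⟨Units.mk0 (θ x / x) (div_ne_zero hθ hx), ?_⟩
  rw [Units.val_mk0, map_div₀, h.sq]
  field_simp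

/-- an additive `g` with `l ↦ g (l θ(l))` additive is zero -/
theorem g_zero {g : F → F} (hg : ∀ a b, g (a + b) = g a + g b)
    (hg' : ∀ l n, g ((l + n) * θ (l + n)) = g (l * θ l) + g (n * θ n)) (x : F) : g x = 0 := by
  have h1 : ∀ l n, g (l * θ n + n * θ l) = 0 := by
    intro l n
    have h2 := hg' l n
    have h3 : (l + n) * θ (l + n) = (l * θ l + n * θ n) + (l * θ n + n * θ l) := by
      rw [map_add]; ring
    rw [h3, hg, hg] at h2
    linear_combination h2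
  rcases eq_or_ne x 0 with rfl | hx
  · have h4 := hg 0 0
    rw [add_zero] at h4
    linear_combination -h4
  · obtain ⟨c, hc⟩ := h.ne_id
    have hc0 : c + θ c ≠ 0 := by
      intro h5
      apply hc
      have := h.two c
      linear_combination h5 - this
    obtain ⟨k, hk⟩ := h.exists_k (x / (c + θ c)) (div_ne_zero hx hc0)
    have h5 := h1 (k * c) k
    have h6 : (k : F) * c * θ k + k * θ (k * c) = x := by
      rw [map_mul]
      have h7 : (k : F) * c * θ k + k * (θ k * θ c) = (k * θ k) * (c + θ c) := by ring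
      rw [h7, hk]
      field_simp
    rwa [h6] at h5

/-- the main computation, `m` with image `e₁` -/
theorem main {m : B} (hm : π₁ m = 1) (a b : F) : X a (X b m) = 0 := by
  choose q hq using fun b => h.exists_YqX b m
  -- `b ↦ q b` is additive
  have hqadd : ∀ b c, q (b + c) = q b + q c := by
    intro b c
    have h1 : Yq X e₀ (X (b + c) m) (q b + q c) := by
      intro a
      rw [h.X_add, map_add, map_add, h.XXX, add_zero, hq b a, hq c a, Pi.add_apply, map_add]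
    exact h.Yq_uniq (hq _) h1
  set g : F → F := fun b => tau (q b) with hgd
  have hg : ∀ b c, g (b + c) = g b + g c := fun b c => by
    show tau (q (b + c)) = _
    rw [hqadd, tau_add]
  have halt : ∀ a, q a a = 0 := by
    intro a
    have h1 := h.X_add a a m
    rw [h.two a, h.X_zero, h.twoB, zero_add, hq a a] at h1
    exact h.e₀_inj (by rw [← h1, map_zero])
  -- torus
  have htor : ∀ (l : Fˣ) (a : F), q (l * θ l) (θ l * a) + θ l * a * g (l * θ l)
      = l * θ l * (q 1 a + a * g 1) := by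
    intro l a
    have hθ : θ (l : F) ≠ 0 := (map_ne_zero θ).2 l.ne_zero
    have h1 := h.r_congr (hq (l * θ l)) (h.Yq_δ (hq 1) l)
      (by rw [h.π₀_X, h.π₀_δ, h.π₀_X, hm]; ring) (by rw [h.π₁_X, h.π₁_δ, h.π₁_X]; ring) (θ l * a)
    rw [tau_δ] at h1
    have h2 : (θ (l : F))⁻¹ * (θ l * a) = a := by rw [← mul_assoc, inv_mul_cancel₀ hθ, one_mul]
    simp only [h2] at h1
    show q (l * θ l) (θ l * a) + θ l * a * tau (q (l * θ l)) = _
    rw [h1]
    show l * θ l * q 1 a + θ l * a * (l * tau (q 1)) = l * θ l * (q 1 a + a * tau (q 1))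
    ring
  have hgr : ∀ l : F, g (l * θ l) = q 1 l + l * g 1 := by
    intro l
    rcases eq_or_ne l 0 with rfl | hl
    · rw [zero_mul, zero_mul, add_zero, h.q_zero (hq 1)]
      have h1 := hg 0 0
      rw [add_zero] at h1
      linear_combination -h1
    · have h1 := htor (Units.mk0 l hl) l
      rw [Units.val_mk0] at h1
      have h2 : θ l * l = l * θ l := mul_comm _ _
      rw [h2, halt, zero_add] at h1
      have hθ : θ l ≠ 0 := (map_ne_zero θ).2 hl
      exact mul_left_cancel₀ (mul_ne_zero hl hθ) h1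
  have hg0 : ∀ x, g x = 0 := by
    refine h.g_zero hg ?_
    intro l n
    rw [hgr, hgr, hgr, h.q_add (hq 1)]
    ring
  have hr1 : ∀ l, q 1 l = 0 := by
    intro l
    have h1 := hgr l
    rw [hg0, hg0, mul_zero, add_zero] at h1
    exact h1.symm
  have hfin : q b a = 0 := by
    rcases eq_or_ne b 0 with rfl | hb
    · have h1 := hqadd 0 0
      rw [add_zero] at h1
      have h2 := congrFun h1 a
      rw [Pi.add_apply] at h2
      linear_combination -h2
    · obtain ⟨k, rfl⟩ := h.exists_k b hb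
      have hθ : θ (k : F) ≠ 0 := (map_ne_zero θ).2 k.ne_zero
      have h1 := htor k ((θ k)⁻¹ * a)
      rw [hg0, hg0, hr1] at h1
      have h2 : θ (k : F) * ((θ k)⁻¹ * a) = a := by rw [← mul_assoc, mul_inv_cancel₀ hθ, one_mul]
      rw [h2] at h1
      linear_combination h1
  rw [hq b a, hfin, map_zero]

/-- **`[B, T, T] = 0`** -/
theorem claim (m : B) (a b : F) : X a (X b m) = 0 := by
  obtain ⟨m₁, hm₁⟩ := h.π_surj
  have h1 : ∀ c, ∃ n, π₁ n = c ∧ X a (X b n) = 0 := by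
    intro c
    rcases eq_or_ne c 0 with rfl | hc
    · exact ⟨0, map_zero _, by rw [map_zero, map_zero]⟩
    · let l : Fˣ := Units.mk0 c hc
      refine ⟨δ l m₁, by rw [h.π₁_δ, hm₁, mul_one]; rfl, ?_⟩
      have hθ : θ (l : F) ≠ 0 := (map_ne_zero θ).2 l.ne_zero
      have h2 : ∀ x, θ (l : F) * ((θ l)⁻¹ * x) = x := fun x => by
        rw [← mul_assoc, mul_inv_cancel₀ hθ, one_mul]
      have h3 := h.δ_X l ((θ l)⁻¹ * b) m₁
      rw [h2] at h3
      have h4 := h.δ_X l ((θ l)⁻¹ * a) (X ((θ l)⁻¹ * b) m₁)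
      rw [h2, h3, h.main hm₁, map_zero] at h4
      exact h4.symm
  obtain ⟨n, hn, hn'⟩ := h1 (π₁ m)
  have h2 : X a (X b (X (π₀ (m + n)) m₁)) = 0 := h.XXX _ _ _ _
  have h3 := h.bot (m + n + X (π₀ (m + n)) m₁)
    (by rw [map_add, h.π₀_X, hm₁, mul_one, h.two])
    (by rw [map_add, map_add, h.π₁_X, hn, h.two, add_zero]) a b
  rw [map_add, map_add, map_add, map_add, h2, hn', add_zero, add_zero] at h3
  exact h3

end Core

end Cfsg.Agent.Omega.NO1.SzMod
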