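import Cfsg.Agent.Omega.TwoFFour.SzNatC
import Cfsg.Agent.Omega.NO1.SzMod.Core

/-!
# THEOREM SZ (406 #19896), CLAIM A: the modules

`SM H P`: `P` an `F₂ Sz(q)`-module such that `Z = {u 0 b}` is quadratic, all `1 ≠ z ∈ Z` have the same fixed points
`B0 = C_P(z) ≤ [P, z]`, and `B0 ∩ w B0 = 0`. Submodules and quotients have the same property (`SM.sub`, `SM.quo`).
-/

set_option autoImplicit false
set_option linter.unusedSectionVars false
set_option linter.deprecated false
set_option linter.style.haveILetI false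

namespace Cfsg.Agent.Omega.NO1.SzMod

open Cfsg.Agent.LieRecognition.SzMatrix Cfsg.Agent.ThreePrime.SzRel Cfsg.Agent.Omega.TwoFFour

section acts

variable {Y M : Type*} [Group Y] [AddCommGroup M] [DistribMulAction Y M]

/-- the action on an invariant subgroup -/
@[reducible] def subAct (A : AddSubgroup M) (hA : ∀ y : Y, ∀ m ∈ A, y • m ∈ A) : DistribMulAction Y A where
  smul y m := ⟨y • (m : M), hA y m m.2⟩
  one_smul m := Subtype.ext (one_smul Y (m : M))
  mul_smul x y m := Subtype.ext (mul_smul x y (m : M))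
  smul_zero y := Subtype.ext (smul_zero y)
  smul_add y a b := Subtype.ext (smul_add y (a : M) (b : M))

/-- the action on the quotient by an invariant subgroup -/
@[reducible] def quoAct (A : AddSubgroup M) (hA : ∀ y : Y, ∀ m ∈ A, y • m ∈ A) : DistribMulAction Y (M ⧸ A) where
  smul y := QuotientAddGroup.map A A (DistribMulAction.toAddMonoidHom M y) (fun m hm => hA y m hm)
  one_smul m := by
    induction m using QuotientAddGroup.induction_on with
    | H m => exact congrArg (QuotientAddGroup.mk (s := A)) (one_smul Y m)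
  mul_smul x y m := by
    induction m using QuotientAddGroup.induction_on with
    | H m => exact congrArg (QuotientAddGroup.mk (s := A)) (mul_smul x y m)
  smul_zero y := map_zero _
  smul_add y a b := map_add _ a b

end acts

universe u

variable {F : Type*} [Field F] {θ : F →+* F} {e : ℕ} {H : Good F θ e}

section modules

variable {P : Type u} [AddCommGroup P] [DistribMulAction (LS F e) P]

/-- `C_P(Z)` -/
def B0 (H : Good F θ e) (P : Type u) [AddCommGroup P] [DistribMulAction (LS F e) P] : AddSubgroup P where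
  carrier := {m | ∀ c, H.u 0 c • m = m}
  zero_mem' := fun _ => smul_zero _
  add_mem' := fun {a b} ha hb c => by rw [smul_add, ha, hb]
  neg_mem' := fun {a} ha c => by rw [smul_neg, ha]

theorem mem_B0 {m : P} : m ∈ B0 H P ↔ ∀ c, H.u 0 c • m = m := Iff.rfl

/-- the modules of CLAIM A -/
structure SM (H : Good F θ e) (P : Type u) [AddCommGroup P] [DistribMulAction (LS F e) P] : Prop where
  two : ∀ m : P, m + m = 0
  quad : Qd H P
  c1 : ∀ b : F, b ≠ 0 → ∀ m : P, H.u 0 b • m = m → m ∈ B0 H P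
  c2 : ∀ b : F, b ≠ 0 → ∀ m ∈ B0 H P, ∃ n : P, m = H.u 0 b • n - n
  c3 : ∀ m ∈ B0 H P, H.w • m ∈ B0 H P → m = 0

/-- `Inv X` : `X` is a submodule -/
def Inv (X : AddSubgroup P) : Prop := ∀ g : LS F e, ∀ x ∈ X, g • x ∈ X

theorem u_B0 {m : P} (hm : m ∈ B0 H P) (a b : F) : H.u a b • m = H.u a 0 • m := by
  have h1 : H.u a b = H.u a 0 * H.u 0 b := by rw [H.u_mul]; simp
  rw [h1, mul_smul, hm]

theorem u_mem_B0 {m : P} (hm : m ∈ B0 H P) (a b : F) : H.u a b • m ∈ B0 H P := by
  intro c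
  have h1 : H.u 0 c * H.u a b = H.u a b * H.u 0 c := by
    rw [H.u_mul, H.u_mul]
    congr 1
    · ring
    · rw [map_zero]; ring
  rw [← mul_smul, h1, mul_smul, hm]

theorem d_mem_B0 {m : P} (hm : m ∈ B0 H P) (k : Fˣ) : H.d k • m ∈ B0 H P := by
  intro c
  have hθ := theta_ne_zero θ k
  have h1 := H.d_mul_u k 0 (c * (θ k)⁻¹)
  have h2 : (0 : F) * k ^ 2 * (θ k)⁻¹ = 0 := by ring
  have h3 : c * (θ (k : F))⁻¹ * θ k = c := by field_simp
  rw [h2, h3] at h1
  rw [← mul_smul, ← h1, mul_smul, hm]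

/-- `[m, z]` -/
def fz (H : Good F θ e) (P : Type u) [AddCommGroup P] [DistribMulAction (LS F e) P] (b : F) : P →+ P :=
  DistribMulAction.toAddMonoidHom P (H.u 0 b) - AddMonoidHom.id P

theorem fz_apply (b : F) (m : P) : fz H P b m = H.u 0 b • m - m := rfl

variable [Finite P] (h : SM H P)
include h

theorem SM.fz_mem (b : F) (m : P) : fz H P b m ∈ B0 H P := fun c => h.quad c b m

theorem SM.sub_eq (m n : P) : m - n = m + n := by
  rw [sub_eq_add_neg, neg_eq_of_add_eq_zero_left (h.two n)]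

/-- `|X| = |X ∩ B0|²` -/
theorem SM.card_X {X : AddSubgroup P} (hX : Inv (F := F) (e := e) X) :
    Nat.card X = Nat.card (X ⊓ B0 H P : AddSubgroup P) * Nat.card (X ⊓ B0 H P : AddSubgroup P) ∧
      (∀ b : F, b ≠ 0 → ∀ m ∈ X, m ∈ B0 H P → ∃ n ∈ X, m = H.u 0 b • n - n) ∧
      ∀ x ∈ X, ∃ y ∈ X, ∃ z ∈ X, y ∈ B0 H P ∧ z ∈ B0 H P ∧ x = y + H.w • z := by
  set Y : AddSubgroup P := X ⊓ B0 H P with hY
  have hYpos : 0 < Nat.card Y := Nat.card_pos
  -- (1) `[X, z]`
  have h1 : ∀ b : F, b ≠ 0 → ∃ g : X →+ Y, (∀ x : X, (g x : P) = H.u 0 b • (x : P) - x) ∧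
      Nat.card X = Nat.card g.range * Nat.card Y := by
    intro b hb
    let g : X →+ Y :=
      { toFun := fun x => ⟨H.u 0 b • (x : P) - x, X.sub_mem (hX _ _ x.2) x.2, h.fz_mem b x⟩
        map_zero' := Subtype.ext (by show H.u 0 b • (0 : P) - 0 = 0; rw [smul_zero, sub_zero])
        map_add' := fun x y => Subtype.ext (by
          show H.u 0 b • ((x : P) + y) - (x + y) = (H.u 0 b • (x : P) - x) + (H.u 0 b • (y : P) - y)
          rw [smul_add]; abel) }
    refine ⟨g, fun x => rfl, ?_⟩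
    have h2 : Nat.card g.ker = Nat.card Y := by
      refine Nat.card_congr ⟨fun x => ⟨(x : X), x.1.2, h.c1 b hb _ ?_⟩, fun y => ⟨⟨y, y.2.1⟩, ?_⟩, ?_, ?_⟩
      · have h3 := congrArg (Subtype.val) (AddMonoidHom.mem_ker.1 x.2)
        exact sub_eq_zero.1 h3
      · exact AddMonoidHom.mem_ker.2 (Subtype.ext (sub_eq_zero.2 (y.2.2 b)))
      · intro x; rfl
      · intro y; rfl
    rw [← h2, AddSubgroup.card_eq_card_quotient_mul_card_addSubgroup g.ker]
    congr 1
    exact Nat.card_congr (QuotientAddGroup.quotientKerEquivRange g).toEquiv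
  -- (2) `Y × Y → X`
  let f : Y × Y → X := fun p => ⟨(p.1 : P) + H.w • (p.2 : P), X.add_mem p.1.2.1 (hX _ _ p.2.2.1)⟩
  have hf : Function.Injective f := by
    rintro ⟨a, b⟩ ⟨c, d⟩ hab
    have h3 : (a : P) + H.w • (b : P) = c + H.w • (d : P) := congrArg Subtype.val hab
    have h4 : H.w • ((b : P) - d) = (c : P) - a := by
      rw [smul_sub]
      have : H.w • (b : P) - H.w • (d : P) = (a + H.w • (b : P)) - a - H.w • (d : P) := by abel
      rw [this, h3]; abel
    have h5 := h.c3 ((b : P) - d) (sub_mem b.2.2 d.2.2) (by rw [h4]; exact sub_mem c.2.2 a.2.2)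
    rw [h5, smul_zero] at h4
    exact Prod.ext (Subtype.ext (sub_eq_zero.1 h4.symm).symm) (Subtype.ext (sub_eq_zero.1 h5))
  have hle1 : Nat.card Y * Nat.card Y ≤ Nat.card X := by
    rw [← Nat.card_prod]
    exact Nat.card_le_card_of_injective f hf
  have h01 : (1 : F) ≠ 0 := one_ne_zero
  have hr : ∀ b : F, b ≠ 0 → ∀ g : X →+ Y, Nat.card X = Nat.card g.range * Nat.card Y →
      g.range = ⊤ := by
    intro b _ g hg
    apply AddSubgroup.eq_top_of_card_eq
    refine le_antisymm (AddSubgroup.card_le_card_addGroup _) ?_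
    rw [hg] at hle1
    exact Nat.le_of_mul_le_mul_right hle1 hYpos
  have hcard : Nat.card X = Nat.card Y * Nat.card Y := by
    obtain ⟨g, -, hg⟩ := h1 1 h01
    rw [hg, hr 1 h01 g hg, AddSubgroup.card_top]
  refine ⟨hcard, ?_, ?_⟩
  · intro b hb m hmX hmB
    obtain ⟨g, hg1, hg⟩ := h1 b hb
    have h2 := hr b hb g hg
    have h3 : (⟨m, hmX, hmB⟩ : Y) ∈ g.range := by rw [h2]; exact AddSubgroup.mem_top _
    obtain ⟨x, hx⟩ := h3
    refine ⟨x, x.2, ?_⟩
    rw [← hg1 x, hx]
  · intro x hx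
    have hb : Function.Bijective f := by
      rw [Nat.bijective_iff_injective_and_card]
      exact ⟨hf, by rw [Nat.card_prod, hcard]⟩
    obtain ⟨⟨y, z⟩, hyz⟩ := hb.2 ⟨x, hx⟩
    exact ⟨y, y.2.1, z, z.2.1, y.2.2, z.2.2, (congrArg Subtype.val hyz).symm⟩

/-- submodules -/
theorem SM.sub {X : AddSubgroup P} (hX : Inv (F := F) (e := e) X) :
    letI := subAct (Y := LS F e) X hX
    SM H X ∧ ∀ m : X, m ∈ B0 H X ↔ (m : P) ∈ B0 H P := by
  letI := subAct (Y := LS F e) X hX
  have hmem : ∀ m : X, m ∈ B0 H X ↔ (m : P) ∈ B0 H P := fun m =>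
    ⟨fun hm c => congrArg Subtype.val (hm c), fun hm c => Subtype.ext (hm c)⟩
  refine ⟨⟨fun m => Subtype.ext (h.two m), fun b c m => Subtype.ext (h.quad b c m), ?_, ?_, ?_⟩, hmem⟩
  · intro b hb m hm
    exact (hmem m).2 (h.c1 b hb m (congrArg Subtype.val hm))
  · intro b hb m hm
    obtain ⟨n, hn, hmn⟩ := (h.card_X hX).2.1 b hb m m.2 ((hmem m).1 hm)
    exact ⟨⟨n, hn⟩, Subtype.ext hmn⟩
  · intro m hm hwm
    exact Subtype.ext (h.c3 m ((hmem m).1 hm) ((hmem _).1 hwm))

/-- quotients -/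
theorem SM.quo {X : AddSubgroup P} (hX : Inv (F := F) (e := e) X) :
    letI := quoAct (Y := LS F e) X hX
    SM H (P ⧸ X) ∧ ∀ m : P, (QuotientAddGroup.mk m : P ⧸ X) ∈ B0 H (P ⧸ X) ↔ ∃ n ∈ B0 H P, m - n ∈ X := by
  letI := quoAct (Y := LS F e) X hX
  have hact : ∀ (g : LS F e) (m : P), g • (QuotientAddGroup.mk m : P ⧸ X) = QuotientAddGroup.mk (g • m) :=
    fun _ _ => rfl
  have h1 : ∀ b : F, b ≠ 0 → ∀ m : P, H.u 0 b • (QuotientAddGroup.mk m : P ⧸ X) = QuotientAddGroup.mk m →
      ∃ n ∈ B0 H P, m - n ∈ X := by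
    intro b hb m hm
    rw [hact, QuotientAddGroup.eq] at hm
    have h2 : H.u 0 b • m - m ∈ X := by
      have := X.neg_mem hm
      rwa [neg_add, neg_neg, ← sub_eq_add_neg] at this
    obtain ⟨n, hn, hmn⟩ := (h.card_X hX).2.1 b hb _ h2 (h.fz_mem b m)
    refine ⟨m - n, h.c1 b hb _ ?_, by rw [sub_sub_cancel]; exact hn⟩
    rw [smul_sub]
    have h3 : H.u 0 b • m - H.u 0 b • n = (H.u 0 b • m - m) - (H.u 0 b • n - n) + (m - n) := by abel
    rw [h3, hmn, sub_self, zero_add]
  have hmem : ∀ m : P, (QuotientAddGroup.mk m : P ⧸ X) ∈ B0 H (P ⧸ X) ↔ ∃ n ∈ B0 H P, m - n ∈ X := by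
    intro m
    refine ⟨fun hm => h1 1 one_ne_zero m (hm 1), ?_⟩
    rintro ⟨n, hn, hmn⟩ c
    rw [hact, QuotientAddGroup.eq]
    have h3 := X.sub_mem hmn (hX (H.u 0 c) _ hmn)
    have h4 : m - n - H.u 0 c • (m - n) = -(H.u 0 c • m) + m := by
      rw [smul_sub, hn]; abel
    rwa [h4] at h3
  refine ⟨⟨?_, ?_, ?_, ?_, ?_⟩, hmem⟩
  · intro m
    induction m using QuotientAddGroup.induction_on with
    | H m => exact congrArg (QuotientAddGroup.mk (s := X)) (h.two m)
  · intro b c m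
    induction m using QuotientAddGroup.induction_on with
    | H m => exact congrArg (QuotientAddGroup.mk (s := X)) (h.quad b c m)
  · intro b hb m hm
    induction m using QuotientAddGroup.induction_on with
    | H m => exact (hmem m).2 (h1 b hb m hm)
  · intro b hb m hm
    induction m using QuotientAddGroup.induction_on with
    | H m =>
      obtain ⟨n, hn, hmn⟩ := (hmem m).1 hm
      obtain ⟨p, hp⟩ := h.c2 b hb n hn
      refine ⟨QuotientAddGroup.mk p, ?_⟩
      have h2 : (QuotientAddGroup.mk m : P ⧸ X) = QuotientAddGroup.mk n := by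
        rw [QuotientAddGroup.eq]
        have h3 := X.neg_mem hmn
        rwa [neg_sub, sub_eq_add_neg, add_comm] at h3
      rw [h2, hp]
      rfl
  · intro m hm hwm
    induction m using QuotientAddGroup.induction_on with
    | H m =>
      obtain ⟨n, hn, hmn⟩ := (hmem m).1 hm
      obtain ⟨p, hp, hwp⟩ := (hmem (H.w • m)).1 hwm
      -- `w n - p ∈ X`
      have h2 : H.w • n - p ∈ X := by
        have h3 := X.sub_mem hwp (hX H.w _ hmn)
        have h4 : H.w • m - p - H.w • (m - n) = H.w • n - p := by rw [smul_sub]; abel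
        rwa [h4] at h3
      obtain ⟨y, hyX, z, hzX, hy, hz, hyz⟩ := (h.card_X hX).2.2 _ h2
      have h5 : H.w • (n - z) = y + p := by
        rw [smul_sub]
        have h6 : H.w • n = (H.w • n - p) + p := by abel
        rw [h6, hyz]; abel
      have h7 := h.c3 (n - z) (sub_mem hn hz) (by rw [h5]; exact add_mem hy hp)
      rw [QuotientAddGroup.eq_zero_iff]
      have h8 : m = (m - n) + z := by
        have h9 : n = z := sub_eq_zero.1 h7
        rw [h9]; abel
      rw [h8]
      exact X.add_mem hmn hzX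

/-- **irreducible modules are natural** -/
theorem SM.exists_nat [Finite F] (h3 : 3 ≤ Nat.card F) (hne : ∃ m : P, m ≠ 0)
    (irr : ∀ X : AddSubgroup P, Inv (F := F) (e := e) X → X = ⊥ ∨ X = ⊤) :
    ∃ f : P → (Fin 4 → F), Function.Bijective f ∧
    (∀ x y, f (x + y) = f x + f y) ∧ ∀ (g : LS F e) (m : P), f (g • m) = mv g.1 (f m) := by
  have hy : Hy H P := by
    refine ⟨h3, h.two, h.quad, irr, ?_⟩
    by_contra hcon
    push Not at hcon
    obtain ⟨m, hm⟩ := hne
    exact hm (h.c3 m (fun c => hcon _ _) (fun c => by rw [hcon, hcon]))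
  exact hy.exists_nat

end modules

end Cfsg.Agent.Omega.NO1.SzMod
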